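import Cfsg.Agent.ChevGroup.Minuscule.DataE6
import Cfsg.Agent.Lib.ChevCore.PackedE6
import Cfsg.Prelude.Def_ChevE6

/-!
Relations between the operators of type E6, part 1.
-/

set_option autoImplicit false

namespace Cfsg.Agent.ChevGroup.Minu

open Cfsg.Lie Cfsg.Agent.ChevCore

theorem relE6_1 : relB chevE6 (fast chevE6 packedE6) 27 tbE6 36 72 = true := by
  decide +kernel

end Cfsg.Agent.ChevGroup.Minu
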