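import Cfsg.Agent.ChevGroup.Minuscule.DataE7
import Cfsg.Agent.Lib.ChevCore.PackedE7
import Cfsg.Prelude.Def_ChevE7

/-!
Relations between the operators of type E7, part 4.
-/

set_option autoImplicit false

namespace Cfsg.Agent.ChevGroup.Minu

open Cfsg.Lie Cfsg.Agent.ChevCore

theorem relE7_4 : relB chevE7 (fast chevE7 packedE7) 56 tbE7 84 105 = true := by
  decide +kernel

end Cfsg.Agent.ChevGroup.Minu
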