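import Cfsg.Agent.ChevGroup.Minuscule.Rep
import Cfsg.Agent.ChevGroup.Steinberg.Center

/-!
A minuscule representation whose weights span the weight lattice separates the torus of Steinberg's group.
-/

set_option autoImplicit false

namespace Cfsg.Agent.ChevGroup.Minu

open Cfsg.Lie Cfsg.Agent.ChevCore

/-- Integer combinations of the weights giving the unit vectors. -/
def spanW (D : ChevalleyDatum) (W : List (List ℤ)) (a : List (List (ℕ × ℤ))) (N : ℕ) : Bool :=
  (List.finRange D.rank).all fun j =>
    ((a.getD j.val []).all fun e => decide (e.1 < N)) &&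
    (List.finRange D.rank).all fun i => decide
      (((a.getD j.val []).map fun e => e.2 * (W.getD e.1 []).getD i.val 0).sum = if i = j then 1 else 0)

theorem zpow_list_sum {M ι : Type*} [CommGroup M] (x : M) (f : ι → ℤ) :
    ∀ L : List ι, x ^ (L.map f).sum = (L.map fun e => x ^ f e).prod
  | [] => by simp
  | e :: L => by rw [List.map_cons, List.sum_cons, zpow_add, zpow_list_sum x f L, List.map_cons, List.prod_cons]

variable {D : ChevalleyDatum} {K : Type*} [Field K]

/-- `psi` is injective. -/
theorem psi_injective (hD : Stb.Cert D) (T : Table D) {W : List (List ℤ)} (hW : weightB T W = true)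
    {a : List (List (ℕ × ℤ))} (ha : spanW D W a T.N = true) :
    Function.Injective (Stb.psi (K := K) hD) := by
  have hG := Stb.good hD
  rw [injective_iff_map_eq_one]
  intro c hc
  have hd : ∀ L : List (Fin D.rank), (((L.map fun i : Fin D.rank =>
        rep T hG (Stb.hb D K (D.simple i.val) (c i : K))).prod :
          (Matrix (Fin T.N) (Fin T.N) K)ˣ) : Matrix (Fin T.N) (Fin T.N) K) =
      Matrix.diagonal fun k : Fin T.N =>
        (L.map fun i : Fin D.rank => ((c i ^ (W.getD k.val []).getD i.val 0 : Kˣ) : K)).prod := by
    intro L
    induction L with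
    | nil => simp
    | cons i L ih =>
      rw [List.map_cons, List.prod_cons, Units.val_mul, ih, ← Stb.mk_stH,
        rep_hb T hG hW i.isLt (c i).ne_zero, Matrix.diagonal_mul_diagonal]
      congr 1
      funext k
      simp [Units.val_zpow_eq_zpow_val]
  have hone : ∀ k : Fin T.N, ∏ i : Fin D.rank, c i ^ (W.getD k.val []).getD i.val 0 = 1 := by
    intro k
    have h := congrArg (fun g => (((rep T hG g : (Matrix (Fin T.N) (Fin T.N) K)ˣ)) :
      Matrix (Fin T.N) (Fin T.N) K) k k) hc
    simp only [map_one, Units.val_one, Matrix.one_apply_eq] at h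
    rw [Stb.psi_eq_prod, map_list_prod, List.map_ofFn, List.ofFn_eq_map] at h
    simp only [Function.comp_def] at h
    rw [hd, Matrix.diagonal_apply_eq] at h
    refine Units.ext ?_
    rw [Units.coe_prod, Units.val_one, ← h, ← List.ofFn_eq_map, List.prod_ofFn]
  funext j
  simp only [spanW, List.all_eq_true, Bool.and_eq_true, decide_eq_true_eq] at ha
  obtain ⟨hlt, hsum⟩ := ha j (List.mem_finRange j)
  calc c j = ∏ i, c i ^ (if i = j then (1 : ℤ) else 0) := by
        rw [Finset.prod_eq_single j]
        · simp
        · intro i _ hi; simp [hi]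
        · simp
    _ = ∏ i : Fin D.rank,
          ((a.getD j.val []).map fun e => c i ^ (e.2 * (W.getD e.1 []).getD i.val 0)).prod := by
        refine Finset.prod_congr rfl fun i _ => ?_
        rw [← hsum i (List.mem_finRange i), zpow_list_sum]
    _ = 1 := by
        have h2 : ∀ L : List (ℕ × ℤ), (∀ e ∈ L, e.1 < T.N) → ∏ i : Fin D.rank,
            (L.map fun e => c i ^ (e.2 * (W.getD e.1 []).getD i.val 0)).prod = 1 := by
          intro L hL
          induction L with
          | nil => simp
          | cons e L ih =>
            simp only [List.map_cons, List.prod_cons, Finset.prod_mul_distrib,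
              ih fun e' he' => hL e' (List.mem_cons_of_mem _ he'), mul_one]
            have h := hone ⟨e.1, hL e (List.mem_cons_self ..)⟩
            simp only at h
            rw [Finset.prod_congr rfl fun i _ => by rw [mul_comm e.2, zpow_mul], Finset.prod_zpow, h,
              one_zpow]
        exact h2 _ hlt

end Cfsg.Agent.ChevGroup.Minu
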