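import Cfsg.Agent.ChevGroup.Minuscule.CertE6_0
import Cfsg.Agent.ChevGroup.Minuscule.CertE6_1
import Cfsg.Agent.Lib.ChevCore.CertE6Table
import Cfsg.Agent.Lib.ChevCore.CertCommE6
import Cfsg.Agent.ChevGroup.Minuscule.CertE7_0
import Cfsg.Agent.ChevGroup.Minuscule.CertE7_1
import Cfsg.Agent.ChevGroup.Minuscule.CertE7_2
import Cfsg.Agent.ChevGroup.Minuscule.CertE7_3
import Cfsg.Agent.ChevGroup.Minuscule.CertE7_4
import Cfsg.Agent.ChevGroup.Minuscule.CertE7_5
import Cfsg.Agent.Lib.ChevCore.CertE7Table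
import Cfsg.Agent.Lib.ChevCore.CertCommE7
import Cfsg.Agent.ChevGroup.Minuscule.Inj

/-!
The minuscule representations of types E6 and E7.
-/

set_option autoImplicit false

namespace Cfsg.Agent.ChevGroup.Minu

open Cfsg.Lie Cfsg.Agent.ChevCore

theorem allE6 : ∀ r < chevE6.nroots, selfB 27 (tbE6 r) (tbE6 (chevE6.neg r)) = true ∧
    ∀ s < chevE6.nroots, s ≠ r → s ≠ chevE6.neg r →
      pairB 27 tbE6 (tbE6 r) (tbE6 s) (chevE6.chainEntry r s) = true := by
  intro r hr
  have hn : chevE6.nroots = 72 := rfl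
  by_cases h0 : r < 36
  · exact table_relB chkLinkE6 relE6_0 (by omega) h0
  by_cases h1 : r < 72
  · exact table_relB chkLinkE6 relE6_1 (by omega) h1
  exfalso; omega

/-- The table of the 27-dimensional representation. -/
noncomputable def tableE6 : Table chevE6 where
  N := 27
  hN := by norm_num
  tb := tbE6
  self r hr := (allE6 r hr).1
  pair r hr := (allE6 r hr).2
  short := short_of_simplyLaced chkLinkE6 chkSimplyLacedE6

theorem weightE6 : weightB tableE6 wtE6 = true := by decide +kernel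

theorem spanE6 : spanW chevE6 wtE6 [[(0, 1)], [(3, 1), (24, -1)], [(2, -1), (24, -1), (25, -1), (26, -1)], [(24, -1), (25, -1), (26, -1)], [(25, -1), (26, -1)], [(26, -1)]] tableE6.N = true := by decide +kernel

theorem allE7 : ∀ r < chevE7.nroots, selfB 56 (tbE7 r) (tbE7 (chevE7.neg r)) = true ∧
    ∀ s < chevE7.nroots, s ≠ r → s ≠ chevE7.neg r →
      pairB 56 tbE7 (tbE7 r) (tbE7 s) (chevE7.chainEntry r s) = true := by
  intro r hr
  have hn : chevE7.nroots = 126 := rfl
  by_cases h0 : r < 21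
  · exact table_relB chkLinkE7 relE7_0 (by omega) h0
  by_cases h1 : r < 42
  · exact table_relB chkLinkE7 relE7_1 (by omega) h1
  by_cases h2 : r < 63
  · exact table_relB chkLinkE7 relE7_2 (by omega) h2
  by_cases h3 : r < 84
  · exact table_relB chkLinkE7 relE7_3 (by omega) h3
  by_cases h4 : r < 105
  · exact table_relB chkLinkE7 relE7_4 (by omega) h4
  by_cases h5 : r < 126
  · exact table_relB chkLinkE7 relE7_5 (by omega) h5
  exfalso; omega

/-- The table of the 56-dimensional representation. -/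
noncomputable def tableE7 : Table chevE7 where
  N := 56
  hN := by norm_num
  tb := tbE7
  self r hr := (allE7 r hr).1
  pair r hr := (allE7 r hr).2
  short := short_of_simplyLaced chkLinkE7 chkSimplyLacedE7

theorem weightE7 : weightB tableE7 wtE7 = true := by decide +kernel

theorem spanE7 : spanW chevE7 wtE7 [[(0, 1), (1, 1), (2, 1), (3, -1), (4, -1), (6, 1), (13, -2)], [(3, 1), (4, 1), (13, 1)], [(0, 1), (1, 1), (2, 1), (13, -1)], [(0, 1), (1, 1), (2, 1), (3, 1)], [(0, 1), (1, 1), (2, 1)], [(0, 1), (1, 1)], [(0, 1)]] tableE7.N = true := by decide +kernel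

end Cfsg.Agent.ChevGroup.Minu
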