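import Cfsg.Agent.Lib.ChevCore.CommDefs
import Cfsg.Agent.Lib.ChevCore.Link
import Cfsg.Agent.Lib.ChevCore.Comm

/-!
Signed partial permutations packed in natural numbers, Boolean checks of the relations between the root
operators of a minuscule representation, and their meaning for matrices.
-/

set_option autoImplicit false

namespace Cfsg.Agent.ChevGroup.Minu

open Cfsg.Lie Cfsg.Agent.ChevCore

/-- The image of the `k`-th basis vector: `0`, or `x + 1` (sign `+`), or `x + 129` (sign `-`). -/
def code (a k : ℕ) : ℕ := (a >>> (8 * k)) % 256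

/-- Change the sign of a code. -/
def flipC (c : ℕ) : ℕ := bif Nat.beq c 0 then 0 else (c + 128) % 256

/-- Apply an operator to a code. -/
def appC (a c : ℕ) : ℕ :=
  bif Nat.beq c 0 then 0 else bif Nat.blt c 128 then code a (c - 1) else flipC (code a (c - 129))

/-- The column `k` of a product. -/
def mulC (a b k : ℕ) : ℕ := appC a (code b k)

/-- The integer vector of a code. -/
def vecC {N : ℕ} (c : ℕ) (row : Fin N) : ℤ :=
  if c = 0 then 0 else if c < 128 then (if row.val = c - 1 then 1 else 0)
    else (if row.val = c - 129 then -1 else 0)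

/-- A code of a vector among the first `N`. -/
noncomputable def okC (N c : ℕ) : Bool :=
  Nat.beq c 0 || (Nat.ble 1 c && Nat.ble c N) || (Nat.ble 129 c && Nat.ble c (N + 128))

/-- The matrix of a packed operator. -/
def matC (N a : ℕ) : Matrix (Fin N) (Fin N) ℤ := Matrix.of fun row k => vecC (code a k.val) row

theorem okC_iff {N c : ℕ} : okC N c = true ↔ c = 0 ∨ (1 ≤ c ∧ c ≤ N) ∨ (129 ≤ c ∧ c ≤ N + 128) := by
  simp [okC, or_assoc]

theorem vecC_flip {N : ℕ} (hN : N < 128) {c : ℕ} (h : okC N c = true) (row : Fin N) :
    vecC (flipC c) row = -vecC c row := by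
  rcases okC_iff.1 h with rfl | ⟨h1, h2⟩ | ⟨h1, h2⟩
  · simp [flipC, vecC]
  · rw [flipC, show Nat.beq c 0 = false from nat_beq_false (by omega), cond_false,
      Nat.mod_eq_of_lt (by omega)]
    simp only [vecC]
    split_ifs <;> omega
  · rw [flipC, show Nat.beq c 0 = false from nat_beq_false (by omega), cond_false,
      show (c + 128) % 256 = c - 128 by omega]
    simp only [vecC]
    split_ifs <;> omega

theorem okC_flip {N : ℕ} (hN : N < 128) {c : ℕ} (h : okC N c = true) : okC N (flipC c) = true := by
  rcases okC_iff.1 h with rfl | ⟨h1, h2⟩ | ⟨h1, h2⟩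
  · simp [flipC, okC]
  · rw [flipC, nat_beq_false (by omega), cond_false, okC_iff]; omega
  · rw [flipC, nat_beq_false (by omega), cond_false, okC_iff]; omega

/-- An operator applied to a column given by a code. -/
theorem mul_col {N : ℕ} (hN : N < 128) {a c : ℕ} (ha : ∀ k < N, okC N (code a k) = true)
    (hc : okC N c = true) {X : Matrix (Fin N) (Fin N) ℤ} {k : Fin N} (hX : ∀ j, X j k = vecC c j)
    (row : Fin N) : (matC N a * X) row k = vecC (appC a c) row ∧ okC N (appC a c) = true := by
  rcases okC_iff.1 hc with h | ⟨h1, h2⟩ | ⟨h1, h2⟩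
  · refine ⟨?_, by simp [appC, h, okC]⟩
    simp [Matrix.mul_apply, hX, vecC, appC, h]
  · have e : appC a c = code a (c - 1) := by
      rw [appC, nat_beq_false (by omega), cond_false, show Nat.blt c 128 = true by simp; omega, cond_true]
    refine ⟨?_, e ▸ ha _ (by omega)⟩
    rw [e, Matrix.mul_apply, Finset.sum_eq_single ⟨c - 1, by omega⟩]
    · simp only [matC, Matrix.of_apply, hX]
      rw [show vecC c (⟨c - 1, by omega⟩ : Fin N) = 1 by
        simp only [vecC]; split_ifs <;> omega, mul_one]
    · intro j _ hj
      rw [hX, show vecC c j = 0 by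
        simp only [vecC]; rw [if_neg (by omega), if_pos (by omega), if_neg (fun e => hj (Fin.ext e))],
        mul_zero]
    · simp
  · have e : appC a c = flipC (code a (c - 129)) := by
      rw [appC, nat_beq_false (by omega), cond_false, nat_blt_false (show ¬ c < 128 by omega), cond_false]
    refine ⟨?_, e ▸ okC_flip hN (ha _ (by omega))⟩
    rw [e, vecC_flip hN (ha _ (by omega)), Matrix.mul_apply,
      Finset.sum_eq_single ⟨c - 129, by omega⟩]
    · simp only [matC, Matrix.of_apply, hX]
      rw [show vecC c (⟨c - 129, by omega⟩ : Fin N) = -1 by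
        simp only [vecC]; split_ifs <;> omega, mul_neg, mul_one]
    · intro j _ hj
      rw [hX, show vecC c j = 0 by
        simp only [vecC]; rw [if_neg (by omega), if_neg (by omega), if_neg (fun e => hj (Fin.ext e))],
        mul_zero]
    · simp

/-- Validity of the codes and the relations between one root and its negative. -/
noncomputable def selfB (N a a' : ℕ) : Bool :=
  kallUpTo N fun k => forceN k fun k =>
    okC N (code a k) && Nat.beq (mulC a a k) 0 && Nat.beq (appC a (mulC a' a k)) (code a k)

/-- The commutator relation between two operators with the chain entry `L`. -/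
noncomputable def pairB (N : ℕ) (tb : ℕ → ℕ) (a b : ℕ) (L : SVec) : Bool :=
  List.rec (kallUpTo N fun k => forceN k fun k => Nat.beq (mulC a b k) (mulC b a k))
    (fun e rest _ => rest.isEmpty && (forceZ e.2 fun z => (zEq z 1 || zEq z (-1)) &&
      forceN (tb e.1) fun c => kallUpTo N fun k => forceN k fun k =>
        forceN (mulC a b k) fun x => forceN (mulC b a k) fun y =>
          forceN (bif zEq z 1 then code c k else flipC (code c k)) fun w =>
            ((Nat.beq y 0 && Nat.beq x w) || (Nat.beq x 0 && Nat.beq (flipC y) w)) &&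
              Nat.beq (mulC a c k) 0 && Nat.beq (mulC b c k) 0)) L

/-- All relations in which the first root is one of `lo, …, hi - 1`. -/
noncomputable def relB (D : ChevalleyDatum) (A : Acc) (N : ℕ) (tb : ℕ → ℕ) (lo hi : ℕ) : Bool :=
  kallUpTo (hi - lo) fun r' => forceN (lo + r') fun r => forceN (tb r) fun a => forceN (A.negf r) fun m =>
    selfB N a (tb m) &&
    kallUpTo D.nroots fun s => forceN s fun s => Nat.beq s r || Nat.beq s m ||
      forceN (tb s) fun b => forceS (A.look r s) fun L => pairB N tb a b L

/-- Checked tables of a minuscule representation. -/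
structure Table (D : ChevalleyDatum) where
  N : ℕ
  hN : N < 128
  tb : ℕ → ℕ
  self : ∀ r < D.nroots, selfB N (tb r) (tb (D.neg r)) = true
  pair : ∀ r < D.nroots, ∀ s < D.nroots, s ≠ r → s ≠ D.neg r →
    pairB N tb (tb r) (tb s) (D.chainEntry r s) = true
  short : ∀ r < D.nroots, ∀ s < D.nroots, (D.chainEntry r s).length ≤ 1

theorem table_relB {D : ChevalleyDatum} {P : Packed} (hl : chkLink D P = true) {N : ℕ} {tb : ℕ → ℕ}
    {lo hi : ℕ} (h : relB D (fast D P) N tb lo hi = true) {r : ℕ} (h1 : lo ≤ r) (h2 : r < hi) :
    selfB N (tb r) (tb (D.neg r)) = true ∧ ∀ s < D.nroots, s ≠ r → s ≠ D.neg r →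
      pairB N tb (tb r) (tb s) (D.chainEntry r s) = true := by
  rw [(fast_eq_std hl).1] at h
  simp only [relB, kallUpTo_iff, forceN_eq, forceS_eq, std_look, Bool.and_eq_true] at h
  obtain ⟨hs, hp⟩ := h (r - lo) (by omega)
  rw [show lo + (r - lo) = r by omega] at hs hp
  refine ⟨hs, fun s hsl e1 e2 => ?_⟩
  have := hp s hsl
  simp only [std_negf, nat_beq_false e1, nat_beq_false e2, Bool.false_or] at this
  exact this

theorem short_of_simplyLaced {D : ChevalleyDatum} {P : Packed} (hl : chkLink D P = true)
    (h : chkSimplyLaced D (fast D P) = true) :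
    ∀ r < D.nroots, ∀ s < D.nroots, (D.chainEntry r s).length ≤ 1 := by
  rw [(fast_eq_std hl).1] at h
  simp only [chkSimplyLaced, kallUpTo_iff, forceS_eq, std_look, Bool.or_eq_true, List.isEmpty_iff,
    Bool.and_eq_true, Nat.ble_eq, kall_iff] at h
  intro a ha b hb
  rcases h a ha b hb with h' | h'
  · simp [h']
  · exact h'.1

end Cfsg.Agent.ChevGroup.Minu
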