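import Cfsg.Prelude.Def_Steinberg
import Cfsg.Agent.ChevGroup.Minuscule.Tables
import Cfsg.Agent.Lib.ChevCore.CommGroup

/-!
The representation of Steinberg's group given by checked minuscule tables, and the eigenvalues of the torus.
-/

set_option autoImplicit false

namespace Cfsg.Agent.ChevGroup.Minu

open Cfsg.Lie Cfsg.Agent.ChevCore

/-! ### Root elements in a ring -/

section ring

variable {K R : Type*} [Field K] [Ring R] [Algebra K R] {A B C : R}

/-- `1 + t A`. -/
def one1 (A : R) (t : K) : R := 1 + t • A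

theorem one1_mul (h : A * A = 0) (t u : K) : one1 A t * one1 A u = one1 A (t + u) := by
  simp only [one1, add_mul, mul_add, one_mul, mul_one, smul_mul_assoc, mul_smul_comm, h, smul_zero, add_smul]
  abel

/-- The unit `1 + t A`. -/
def unit1 (h : A * A = 0) (t : K) : Rˣ :=
  ⟨one1 A t, one1 A (-t), by rw [one1_mul h, add_neg_cancel, one1, zero_smul, add_zero],
    by rw [one1_mul h, neg_add_cancel, one1, zero_smul, add_zero]⟩

theorem one1_comm {z : K} (hc : A * B - B * A = z • C) (h1 : A * C = 0) (h2 : B * C = 0) (t u : K) :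
    one1 B u * one1 A t = one1 A t * one1 B u * one1 C (z * (-t) * u) := by
  have h3 : B * A = A * B - z • C := by rw [← hc]; abel
  simp only [one1, add_mul, mul_add, one_mul, mul_one, smul_mul_assoc, mul_smul_comm, smul_add,
    mul_assoc, h1, h2, mul_zero, smul_zero, add_zero, h3, smul_sub]
  module

/-- `n(t) = R + t A - t⁻¹ B`. -/
theorem nn_eq (hA : A * A = 0) (h : A * B * A = A) {t : K} (ht : t ≠ 0) :
    one1 A t * one1 B (-t⁻¹) * one1 A t = (1 - A * B - B * A) + t • A - t⁻¹ • B := by
  simp only [one1, add_mul, mul_add, one_mul, mul_one, smul_mul_assoc, mul_smul_comm, smul_add, hA,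
    smul_zero, add_zero, h]
  match_scalars <;> field_simp <;> ring

/-- `h(t) = R + t P + t⁻¹ Q`. -/
theorem hh_eq (hA : A * A = 0) (hB : B * B = 0) (h : A * B * A = A) (h' : B * A * B = B) {t : K}
    (ht : t ≠ 0) :
    one1 A t * one1 B (-t⁻¹) * one1 A t * (one1 A (-1 : K) * one1 B (-(-1 : K)⁻¹) * one1 A (-1 : K)) =
      (1 - A * B - B * A) + t • (A * B) + t⁻¹ • (B * A) := by
  rw [nn_eq hA h ht, nn_eq hA h (neg_ne_zero.2 one_ne_zero)]
  have h'' : A * (B * A) = A := by rw [← mul_assoc, h]
  have h''' : B * (A * B) = B := by rw [← mul_assoc, h']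
  have hA' : ∀ X : R, A * (A * X) = 0 := fun X => by rw [← mul_assoc, hA, zero_mul]
  have hB' : ∀ X : R, B * (B * X) = 0 := fun X => by rw [← mul_assoc, hB, zero_mul]
  simp only [inv_neg, inv_one, neg_smul, one_smul, sub_neg_eq_add, add_mul, mul_add, sub_mul, mul_sub,
    one_mul, mul_one, smul_mul_assoc, mul_smul_comm, mul_neg, neg_mul, mul_assoc, hA, hB, hA', hB', h'',
    h''', mul_zero, zero_mul, smul_zero, smul_sub, smul_neg, sub_zero, add_zero, sub_self]
  module

/-- `h` is multiplicative. -/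
theorem hh_mul (hA : A * A = 0) (hB : B * B = 0) (h : A * B * A = A) (h' : B * A * B = B) {t u : K}
    (ht : t ≠ 0) (hu : u ≠ 0) :
    ((1 - A * B - B * A) + t • (A * B) + t⁻¹ • (B * A)) *
        ((1 - A * B - B * A) + u • (A * B) + u⁻¹ • (B * A)) =
      (1 - A * B - B * A) + (t * u) • (A * B) + (t * u)⁻¹ • (B * A) := by
  have h'' : A * (B * A) = A := by rw [← mul_assoc, h]
  have h''' : B * (A * B) = B := by rw [← mul_assoc, h']
  have hA' : ∀ X : R, A * (A * X) = 0 := fun X => by rw [← mul_assoc, hA, zero_mul]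
  have hB' : ∀ X : R, B * (B * X) = 0 := fun X => by rw [← mul_assoc, hB, zero_mul]
  simp only [add_mul, mul_add, sub_mul, mul_sub, one_mul, mul_one, smul_mul_assoc, mul_smul_comm,
    mul_assoc, hA', hB', h'', h''', mul_zero, smul_zero, sub_zero, add_zero, sub_self, mul_inv]
  module

end ring

/-! ### The representation -/

variable {D : ChevalleyDatum} (T : Table D)

/-- The integer matrix of a root. -/
def opZ (r : ℕ) : Matrix (Fin T.N) (Fin T.N) ℤ := matC T.N (T.tb r)

theorem okC_tb {r : ℕ} (hr : r < D.nroots) : ∀ k < T.N, okC T.N (code (T.tb r) k) = true := by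
  intro k hk
  have h := T.self r hr
  simp only [selfB, kallUpTo_iff, forceN_eq, Bool.and_eq_true] at h
  exact (h k hk).1.1

theorem opZ_mul {r s : ℕ} (hr : r < D.nroots) (hs : s < D.nroots) (row k : Fin T.N) :
    (opZ T r * opZ T s) row k = vecC (mulC (T.tb r) (T.tb s) k.val) row :=
  (mul_col T.hN (okC_tb T hr) (okC_tb T hs k k.isLt) (fun _ => rfl) row).1

theorem opZ_sq {r : ℕ} (hr : r < D.nroots) : opZ T r * opZ T r = 0 := by
  ext row k
  have h := T.self r hr
  simp only [selfB, kallUpTo_iff, forceN_eq, Bool.and_eq_true] at h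
  rw [opZ_mul T hr hr, Nat.eq_of_beq_eq_true (h k k.isLt).1.2]
  simp [vecC]

theorem opZ_cube {r : ℕ} (hr : r < D.nroots) (hn : D.neg r < D.nroots) :
    opZ T r * opZ T (D.neg r) * opZ T r = opZ T r := by
  rw [mul_assoc]
  ext row k
  have h := T.self r hr
  simp only [selfB, kallUpTo_iff, forceN_eq, Bool.and_eq_true] at h
  have hc := mul_col T.hN (okC_tb T hn) (okC_tb T hr k k.isLt) (X := opZ T r) (fun _ => rfl)
  refine ((mul_col T.hN (okC_tb T hr) (hc row).2 (X := opZ T (D.neg r) * opZ T r)
    (fun j => (hc j).1) row).1).trans ?_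
  show vecC (appC (T.tb r) (mulC (T.tb (D.neg r)) (T.tb r) k.val)) row = _
  rw [Nat.eq_of_beq_eq_true (h k k.isLt).2]
  rfl

theorem opZ_comm {r s : ℕ} (hr : r < D.nroots) (hs : s < D.nroots) (h1 : s ≠ r) (h2 : s ≠ D.neg r)
    (hlt : ∀ e ∈ D.chainEntry r s, e.1 < D.nroots) :
    (D.chainEntry r s = [] ∧ opZ T r * opZ T s = opZ T s * opZ T r) ∨
      ∃ c z, D.chainEntry r s = [(c, z)] ∧ opZ T r * opZ T s - opZ T s * opZ T r = z • opZ T c ∧
        opZ T r * opZ T c = 0 ∧ opZ T s * opZ T c = 0 := by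
  have h := T.pair r hr s hs h1 h2
  have hlen := T.short r hr s hs
  rcases hL : D.chainEntry r s with _ | ⟨⟨c, z⟩, L⟩
  · left
    refine ⟨rfl, ?_⟩
    rw [hL] at h
    simp only [pairB, kallUpTo_iff, forceN_eq] at h
    ext row k
    rw [opZ_mul T hr hs, opZ_mul T hs hr, Nat.eq_of_beq_eq_true (h k k.isLt)]
  · right
    rw [hL] at h hlen
    obtain rfl : L = [] := by cases L <;> simp_all
    refine ⟨c, z, rfl, ?_⟩
    have hc : c < D.nroots := hlt (c, z) (by rw [hL]; simp)
    simp only [pairB, List.isEmpty_nil, Bool.true_and, forceZ_eq, forceN_eq, Bool.and_eq_true,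
      Bool.or_eq_true, zEq_iff, kallUpTo_iff] at h
    obtain ⟨hz, h⟩ := h
    refine ⟨?_, ?_, ?_⟩
    · ext row k
      obtain ⟨⟨hxy, -⟩, -⟩ := h k k.isLt
      rw [Matrix.sub_apply, Matrix.smul_apply, opZ_mul T hr hs, opZ_mul T hs hr]
      show _ = z • vecC (code (T.tb c) k.val) row
      have hk := okC_tb T hc k k.isLt
      have hw : vecC (bif zEq z 1 then code (T.tb c) k.val else flipC (code (T.tb c) k.val)) row =
          z • vecC (code (T.tb c) k.val) row := by
        rcases hz with rfl | rfl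
        · rw [zEq_iff.2 rfl]; simp
        · rw [show zEq (-1) 1 = false from Bool.eq_false_iff.2 fun h => by simpa using zEq_iff.1 h,
            cond_false, vecC_flip T.hN hk]
          simp
      have hy := (mul_col T.hN (okC_tb T hs) (okC_tb T hr k k.isLt) (fun _ => rfl) (X := opZ T r) row).2
      rcases hxy with ⟨h3, h4⟩ | ⟨h3, h4⟩
      · rw [Nat.eq_of_beq_eq_true h3, Nat.eq_of_beq_eq_true h4, hw]
        simp [vecC]
      · rw [← Nat.eq_of_beq_eq_true h4] at hw
        rw [Nat.eq_of_beq_eq_true h3, ← hw, vecC_flip (c := mulC (T.tb s) (T.tb r) k.val) T.hN hy]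
        simp [vecC]
    · ext row k
      rw [opZ_mul T hr hc, Nat.eq_of_beq_eq_true (h k k.isLt).1.2]
      simp [vecC]
    · ext row k
      rw [opZ_mul T hs hc, Nat.eq_of_beq_eq_true (h k k.isLt).2]
      simp [vecC]

variable (K : Type*) [Field K]

/-- The matrix of a root over `K`. -/
def opK (r : ℕ) : Matrix (Fin T.N) (Fin T.N) K := (Int.castRingHom K).mapMatrix (opZ T r)

variable {K}

open Classical in
/-- The image of a generator. -/
noncomputable def gen (p : Fin D.nroots × K) : (Matrix (Fin T.N) (Fin T.N) K)ˣ :=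
  unit1 (A := opK T K p.1.val) (by rw [opK, ← map_mul, opZ_sq T p.1.isLt, map_zero]) p.2

theorem val_lift {r : ℕ} (hr : r < D.nroots) (t : K) :
    ((FreeGroup.lift (gen T) (D.stX r t) : (Matrix (Fin T.N) (Fin T.N) K)ˣ) :
      Matrix (Fin T.N) (Fin T.N) K) = one1 (opK T K r) t := by
  simp [ChevalleyDatum.stX, hr, gen, unit1]

theorem val_stH (hG : Good D) {r : ℕ} (hr : r < D.nroots) {t : K} (ht : t ≠ 0) :
    ((FreeGroup.lift (gen T) (D.stH r t) : (Matrix (Fin T.N) (Fin T.N) K)ˣ) :
      Matrix (Fin T.N) (Fin T.N) K) =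
    (1 - opK T K r * opK T K (D.neg r) - opK T K (D.neg r) * opK T K r) +
      t • (opK T K r * opK T K (D.neg r)) + t⁻¹ • (opK T K (D.neg r) * opK T K r) := by
  have hn := hG.neg_lt hr
  rw [← hh_eq (by rw [opK, ← map_mul, opZ_sq T hr, map_zero])
    (by rw [opK, ← map_mul, opZ_sq T hn, map_zero])
    (by rw [opK, opK, ← map_mul, ← map_mul, opZ_cube T hr hn])
    (by
      have h := opZ_cube T hn (by rw [hG.neg_neg hr]; exact hr)
      rw [hG.neg_neg hr] at h
      rw [opK, opK, ← map_mul, ← map_mul, h]) ht]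
  simp only [ChevalleyDatum.stH, ChevalleyDatum.stWord, ChevalleyDatum.hWord, ChevalleyDatum.nWord,
    List.map_append, List.map_cons, List.map_nil, List.cons_append, List.nil_append, List.prod_cons,
    List.prod_nil, mul_one, map_mul, Units.val_mul, val_lift T hr, val_lift T hn, mul_assoc]

theorem commTerms_eq (hG : Good D) (hshort : ∀ r < D.nroots, ∀ s < D.nroots, (D.chainEntry r s).length ≤ 1)
    {r s : ℕ} (hr : r < D.nroots) (hs : s < D.nroots) :
    D.commTerms r s = (D.chainEntry r s).map fun e => (e.1, e.2, 1, 1) := by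
  have e1 := hshort r hr s hs
  have e2 := hshort s hs r hr
  have hne : ∀ (L : SVec), L.length ≤ 1 → ∀ i, 1 ≤ i → L[i]? = none := fun L hL i hi =>
    List.getElem?_eq_none (by omega)
  rw [← commW_std]
  simp only [commW, std_look, hne _ e1 1 le_rfl, hne _ e1 2 (by omega), hne _ e2 1 le_rfl,
    hne _ e2 2 (by omega), Option.map_none, Option.bind_none, Option.getD_none]
  rcases he : D.chainEntry r s with _ | ⟨e, _ | ⟨f, L⟩⟩
  · simp
  · simp
  · simp [he] at e1

theorem lift_gen_rels (hG : Good D) : ∀ g ∈ D.steinbergRels K, FreeGroup.lift (gen T) g = 1 := by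
  rintro g ((⟨r, a, b, hr, rfl⟩ | ⟨r, s, t, u, hr, hs, h1, h2, rfl⟩) | ⟨r, a, b, hr, ha, hb, rfl⟩)
  · rw [map_mul, map_mul, map_inv, mul_inv_eq_one]
    refine Units.ext ?_
    rw [Units.val_mul, val_lift T hr, val_lift T hr, val_lift T hr,
      one1_mul (by rw [opK, ← map_mul, opZ_sq T hr, map_zero])]
  · have hterms := commTerms_eq hG T.short hr hs
    have hlt : ∀ e ∈ D.chainEntry r s, e.1 < D.nroots := fun e he =>
      (hG.commTerms_coef hr hs (c := (e.1, e.2, 1, 1)) (by
        rw [commW_std, hterms]; exact List.mem_map.2 ⟨e, he, rfl⟩)).1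
    have key : FreeGroup.lift (gen T) (D.stX s u) * FreeGroup.lift (gen T) (D.stX r t) =
        FreeGroup.lift (gen T) (D.stX r t) * FreeGroup.lift (gen T) (D.stX s u) *
          FreeGroup.lift (gen T) (D.stWord (D.commWord K r s t u)) := by
      refine Units.ext ?_
      simp only [Units.val_mul, val_lift T hr, val_lift T hs]
      rcases opZ_comm T hr hs h1 h2 hlt with ⟨hL, hc⟩ | ⟨c, z, hL, hc, h3, h4⟩
      · simp only [ChevalleyDatum.commWord, hterms, hL, List.map_nil, ChevalleyDatum.stWord,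
          List.prod_nil, map_one, Units.val_one, mul_one]
        have hc' : opK T K r * opK T K s = opK T K s * opK T K r := by
          rw [opK, opK, ← map_mul, hc, map_mul]
        simp only [one1, add_mul, mul_add, one_mul, mul_one, smul_mul_assoc, mul_smul_comm, smul_add, hc']
        module
      · have hcl : c < D.nroots := hlt (c, z) (by rw [hL]; simp)
        simp only [ChevalleyDatum.commWord, hterms, hL, List.map_cons, List.map_nil,
          ChevalleyDatum.stWord, List.prod_cons, List.prod_nil, mul_one, pow_one, val_lift T hcl]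
        refine one1_comm ?_ (by rw [opK, opK, ← map_mul, h3, map_zero])
          (by rw [opK, opK, ← map_mul, h4, map_zero]) t u
        rw [opK, opK, opK, ← map_mul, ← map_mul, ← map_sub, hc, map_zsmul, ← Int.cast_smul_eq_zsmul K]
    simp only [map_mul, map_inv, mul_inv_eq_one]
    rw [mul_assoc _ (FreeGroup.lift (gen T) (D.stX s u)), key]
    group
  · rw [map_mul, map_mul, map_inv, mul_inv_eq_one]
    refine Units.ext ?_
    have hn := hG.neg_lt hr
    rw [Units.val_mul, val_stH T hG hr ha, val_stH T hG hr hb, val_stH T hG hr (mul_ne_zero ha hb)]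
    refine hh_mul ?_ ?_ ?_ ?_ ha hb
    · rw [opK, ← map_mul, opZ_sq T hr, map_zero]
    · rw [opK, ← map_mul, opZ_sq T hn, map_zero]
    · rw [opK, opK, ← map_mul, ← map_mul, opZ_cube T hr hn]
    · have h := opZ_cube T hn (by rw [hG.neg_neg hr]; exact hr)
      rw [hG.neg_neg hr] at h
      rw [opK, opK, ← map_mul, ← map_mul, h]

/-- The representation of Steinberg's group. -/
noncomputable def rep (hG : Good D) : D.SteinbergGroup K →* (Matrix (Fin T.N) (Fin T.N) K)ˣ :=
  PresentedGroup.toGroup (lift_gen_rels T hG)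

theorem rep_mk (hG : Good D) (w : FreeGroup (Fin D.nroots × K)) :
    rep T hG (PresentedGroup.mk (D.steinbergRels K) w) = FreeGroup.lift (gen T) w := by
  refine DFunLike.congr_fun (f := (rep T hG).comp (PresentedGroup.mk (D.steinbergRels K)))
    (g := FreeGroup.lift (gen T)) ?_ w
  ext p : 1
  rw [MonoidHom.comp_apply, FreeGroup.lift_apply_of]
  exact PresentedGroup.toGroup.of (lift_gen_rels (K := K) T hG)

/-- The eigenvalues of the `h` of the fundamental roots. -/
noncomputable def weightB (T : Table D) (W : List (List ℤ)) : Bool :=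
  kallUpTo D.rank fun i => forceN (T.tb (D.simple i)) fun a => forceN (T.tb (D.neg (D.simple i))) fun b =>
    kallUpTo T.N fun k => forceN k fun k => forceZ (kget (kget W k []) i 0) fun m =>
      bif zEq m 0 then Nat.beq (code a k) 0 && Nat.beq (code b k) 0
      else bif zEq m 1 then Nat.beq (mulC a b k) (k + 1) && Nat.beq (code a k) 0
      else zEq m (-1) && Nat.beq (code b k) 0 && Nat.beq (mulC b a k) (k + 1)

theorem rep_hb (hG : Good D) {W : List (List ℤ)} (hW : weightB T W = true) {i : ℕ} (hi : i < D.rank)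
    {t : K} (ht : t ≠ 0) :
    ((rep T hG (PresentedGroup.mk (D.steinbergRels K) (D.stH (D.simple i) t)) :
        (Matrix (Fin T.N) (Fin T.N) K)ˣ) : Matrix (Fin T.N) (Fin T.N) K) =
      Matrix.diagonal fun k : Fin T.N => t ^ ((W.getD k.val []).getD i 0) := by
  have hr := hG.simple_lt hi
  have hn := hG.neg_lt hr
  rw [rep_mk, val_stH T hG hr ht]
  simp only [weightB, kallUpTo_iff, forceN_eq, forceZ_eq, kget_eq] at hW
  set m : Fin T.N → ℤ := fun k => (W.getD k.val []).getD i 0
  set p := D.simple i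
  set q := D.neg p
  have hone : ∀ row k : Fin T.N, vecC (k.val + 1) row = (if row = k then 1 else 0) := by
    intro row k
    have := k.isLt
    have := T.hN
    rw [vecC, if_neg (by omega), if_pos (by omega)]
    simp [Fin.ext_iff]
  have hcases : ∀ row k : Fin T.N,
      (opZ T p * opZ T q) row k = (if row = k ∧ m k = 1 then 1 else 0) ∧
      (opZ T q * opZ T p) row k = (if row = k ∧ m k = -1 then 1 else 0) ∧
      (m k = 0 ∨ m k = 1 ∨ m k = -1) := by
    intro row k
    have h := hW i hi k k.isLt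
    rw [opZ_mul T hr hn, opZ_mul T hn hr]
    by_cases h0 : m k = 0
    · rw [show zEq (m k) 0 = true from zEq_iff.2 h0, cond_true, Bool.and_eq_true] at h
      rw [h0]
      refine ⟨?_, ?_, Or.inl rfl⟩
      · rw [show mulC (T.tb p) (T.tb q) k = 0 from by rw [mulC, Nat.eq_of_beq_eq_true h.2]; rfl]
        simp [vecC]
      · rw [show mulC (T.tb q) (T.tb p) k = 0 from by rw [mulC, Nat.eq_of_beq_eq_true h.1]; rfl]
        simp [vecC]
    rw [show zEq (m k) 0 = false from Bool.eq_false_iff.2 fun h => h0 (zEq_iff.1 h), cond_false] at h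
    by_cases h1 : m k = 1
    · rw [show zEq (m k) 1 = true from zEq_iff.2 h1, cond_true, Bool.and_eq_true] at h
      rw [h1, Nat.eq_of_beq_eq_true h.1, hone]
      refine ⟨by simp, ?_, Or.inr (Or.inl rfl)⟩
      rw [show mulC (T.tb q) (T.tb p) k = 0 from by rw [mulC, Nat.eq_of_beq_eq_true h.2]; rfl]
      simp [vecC]
    rw [show zEq (m k) 1 = false from Bool.eq_false_iff.2 fun h => h1 (zEq_iff.1 h), cond_false] at h
    simp only [Bool.and_eq_true] at h
    have h2 := zEq_iff.1 h.1.1
    rw [show m k = -1 from h2, Nat.eq_of_beq_eq_true h.2, hone]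
    refine ⟨?_, by simp, Or.inr (Or.inr rfl)⟩
    rw [show mulC (T.tb p) (T.tb q) k = 0 from by rw [mulC, Nat.eq_of_beq_eq_true h.1.2]; rfl]
    simp [vecC]
  ext row k
  obtain ⟨hP, hQ, hm⟩ := hcases row k
  simp only [opK, ← map_mul]
  simp only [Matrix.add_apply, Matrix.sub_apply, Matrix.smul_apply, RingHom.mapMatrix_apply,
    Matrix.map_apply, hP, hQ, Matrix.one_apply, Matrix.diagonal_apply, smul_eq_mul]
  by_cases e : row = k
  · subst e
    simp only [if_pos, true_and]
    change _ = t ^ m row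
    rcases hm with hm | hm | hm <;> simp [hm]
  · simp [e]

end Cfsg.Agent.ChevGroup.Minu
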